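import Cfsg.Agent.TwoF.SpD.HN.Tool
import Cfsg.Agent.TwoF.SpD.Tool
import Cfsg.Agent.H839.Rad.HNFive
import Cfsg.Agent.KFacts.HN.Large
import Cfsg.Agent.UGT.End.HN
import Cfsg.Agent.H285.Gen.HNChain
import Cfsg.Agent.H285.Gen.HNFive
import Cfsg.Agent.SB.SporD.HNF5a
import Cfsg.Agent.H529.S8.Base
import Cfsg.Agent.S2056
import Cfsg.Agent.S2082

/-!
# TwoF SP-D: the row of the Harada-Norton group (helper29)
-/

set_option autoImplicit false

namespace Cfsg.Agent.TwoF.SpD.HN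

open Cfsg Module Subgroup Cfsg.Agent.TwoF.Gen
open Cfsg.Agent.H839.Rad.HN (ext hW)
open Cfsg.Agent.H981.InvHN (card_HN)
open Cfsg.Agent.HN.XWords (W0)
open Cfsg.Agent.UGT.End.HN (EE sq_EE isConj_EE card_EE)

theorem fin : Finite Spor.HN := Nat.finite_of_card_ne_zero (by rw [card_HN]; norm_num)

theorem lb {p : ℕ} [Fact p.Prime] (h5 : 5 ≠ p) (h : orderOf (p : ZMod 5) = 4) : LB p Spor.HN 100 :=
  lb_of_faithful S2056.result fun V _ _ _ ρ hf => by
    have := fin
    have h1 := cod_extra hf (k := 2) Nat.prime_five h5 hW ext.le_card ext.w_mem ext.comm_w ext.commutator_mem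
      fun t ht => ext.center ht
    have h2 := cod_add (ρ := ρ) (zpowers H839.Rad.HN.W)
    rw [h] at h1
    omega

theorem noOff {p : ℕ} [Fact p.Prime] (h5 : 5 ≠ p) (h : orderOf (p : ZMod 5) = 4) : NoOff p Spor.HN :=
  have := fin
  XE.noOff_of_lb' (lb h5 h) S2056.result one_ne_zero card_HN.le S2082.result.le
    (lt_of_lt_of_le (by norm_num) (Nat.pow_le_pow_left (Fact.out : p.Prime).two_le 100))

theorem cor : Cor 5 Spor.HN := by
  intro V _ _ _ ρ hf _ A hA hc
  have := fin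
  obtain ⟨r, h0, h1, h2⟩ := hA.exists_card
  have h3 := SB.SporD.HN.F5.card_ab (elemAb_isPGroup hA.1) fun x hx y hy => elemAb_comm hA.1 hx hy
  rw [h1, show 125 = 5 ^ 3 from rfl, Nat.pow_le_pow_iff_right (by norm_num)] at h3
  obtain ⟨x, hx, h4⟩ := exists_elt h0 h1
  obtain ⟨f, h5⟩ := H285.Gen.HN.k3_five x h4
  have h6 : ⨆ i ∈ (Finset.univ : Finset (Fin 3)), A.map (MulAut.conj (f i)).toMonoidHom = ⊤ := by
    by_contra h6
    have h7 := H285.Gen.HN.orders H529.S8.base _ (h5.trans (card_dvd_of_le ((closure_le _).2 (by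
      rintro _ ⟨i, rfl⟩
      exact le_iSup₂_of_le (f := fun i (_ : i ∈ (Finset.univ : Finset (Fin 3))) =>
        A.map (MulAut.conj (f i)).toMonoidHom) i (Finset.mem_univ i) le_rfl ⟨x, hx, rfl⟩)))) h6
    have h8 := card_dvd_of_le (le_iSup₂_of_le (f := fun i (_ : i ∈ (Finset.univ : Finset (Fin 3))) =>
      A.map (MulAut.conj (f i)).toMonoidHom) 0 (Finset.mem_univ _) le_rfl)
    rw [card_map_conj] at h8
    exact (by decide : ∀ n ∈ H285.Gen.HN.os, ¬ 5 ^ (1 + 1) ∣ n) _ h7 ((hA.pow_dvd_of_not_cub hc).trans h8)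
  have h7 := cod_biSup_le (ρ := ρ) (Finset.univ : Finset (Fin 3)) fun i => A.map (MulAut.conj (f i)).toMonoidHom
  simp only [h6, cod_conj, Finset.sum_const, Finset.card_univ, Fintype.card_fin, smul_eq_mul] at h7
  have h8 := cod_large hf (by norm_num) KFacts.HN.large (k := 4) KFacts.HN.card_RS
  have h9 := cod_pure (ρ := ρ) (by norm_num) (fun g hg => sq_EE hg) card_EE (c := 2 ^ 4) fun g hg h => by
    obtain ⟨u, rfl⟩ := isConj_iff.1 (isConj_EE hg h)
    rwa [cod_zpowers_conj]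
  have h10 := cod_mono (ρ := ρ) (le_top (a := EE))
  omega

/-- **the row of `HN`** -/
theorem row (p : ℕ) [hp : Fact p.Prime] : Row p Spor.HN := by
  have := fin
  by_cases h2 : p = 2
  · subst h2
    exact (noOff (by norm_num) ((orderOf_eq_iff (by norm_num)).2 (by decide))).row
  by_cases h3 : p = 3
  · subst h3
    exact (noOff (by norm_num) ((orderOf_eq_iff (by norm_num)).2 (by decide))).row
  have ho : ¬ p ∣ Nat.card (Out Spor.HN) := fun e =>
    h2 ((Nat.prime_dvd_prime_iff_eq hp.out Nat.prime_two).1 (S2082.result ▸ e))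
  by_cases h5 : p = 5
  · subst h5
    exact row_of_cor ho S2056.result (fun d h _ => Nat.dvd_one.1 h) cor
  refine row_sq ho S2056.result fun h1 => ?_
  rw [card_HN, show 273030912000000 = 2 ^ 14 * 3 ^ 6 * 5 ^ 6 * (7 * 11 * 19) by norm_num] at h1
  have h4 : ∀ {q : ℕ}, q.Prime → p ≠ q → ∀ n, Nat.Coprime (p ^ 2) (q ^ n) := fun hq h n =>
    ((Nat.coprime_primes hp.out hq).2 h).pow _ _
  have h6 := (((h4 Nat.prime_two h2 14).mul_right (h4 Nat.prime_three h3 6)).mul_right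
    (h4 Nat.prime_five h5 6)).dvd_of_dvd_mul_left h1
  have h7 : Squarefree (7 * 11 * 19) := by
    simp only [Nat.squarefree_mul_iff]
    refine ⟨by norm_num, ⟨by norm_num, ?_, ?_⟩, ?_⟩ <;> exact (Nat.Prime.prime (by norm_num)).squarefree
  exact hp.out.one_lt.ne' (Nat.isUnit_iff.1 (h7 p (by rwa [← pow_two])))

end Cfsg.Agent.TwoF.SpD.HN
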