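import Cfsg.Agent.TwoF.SpB.Core
import Cfsg.Agent.TwoF.XL.Abs
import Cfsg.Agent.TwoF.XE.Bridge
import Cfsg.Agent.Co2Type.Quad

/-!
# TwoF SP-D: tools for the row `HN` (helper29)

* `Cor p S` : no noncubic offender on a faithful module of `S` without fixed vectors; `row_of_cor`;
* lower bounds of `cod` : `cod_extra`, `cod_large`, `cod_pure`.
-/

set_option autoImplicit false

namespace Cfsg.Agent.TwoF.SpD.HN

open Module Subgroup Cfsg.Agent.TwoF.Gen Cfsg.Agent.TwoF.XL
open scoped commutatorElement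

/-- no noncubic offender on a faithful module without fixed vectors -/
def Cor (p : ℕ) [Fact p.Prime] (S : Type) [Group S] : Prop :=
  ∀ (V : Type) [AddCommGroup V] [Module (ZMod p) V] [Finite V] (ρ : Representation (ZMod p) S V),
    Function.Injective ρ → fx ρ ⊤ = ⊥ → ∀ A : Subgroup S, Off p ρ A → ¬ Cub ρ A → False

section rows

variable {p : ℕ} [Fact p.Prime] {S : Type} [Group S]

theorem row_of_cor (ho : ¬ p ∣ Nat.card (Out S)) {m : ℕ} (hm : HasCyclicSchurMultiplier S m)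
    (hd : ∀ d, d ∣ m → ¬ p ∣ d → d = 1) (h : Cor p S) : Row p S := by
  refine ⟨row88_of_sit fun Y _ _ V _ _ _ K ρ π φ H A hA => ?_, row89_of_not_dvd ho⟩
  refine ⟨A, hA, ?_⟩
  by_contra hc
  have hZ : center K = ⊥ := card_eq_one.1 (hd _ (H.toFrm.card_center_dvd' H.toStp.perfect hm) H.cop)
  have hπ : Function.Bijective π := ⟨(MonoidHom.ker_eq_bot_iff π).1 (H.ker_π.trans hZ), H.surj⟩
  let e : S ≃* K := (MulEquiv.ofBijective π hπ).symm
  let f : S →* Y := K.subtype.comp e.toMonoidHom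
  have hf : Function.Injective f := K.subtype_injective.comp e.injective
  have hr : f.range = K := by
    rw [MonoidHom.range_comp, MonoidHom.range_eq_top.2 e.surjective, ← MonoidHom.range_eq_map, range_subtype]
  have hAK : A ≤ f.range := by
    rw [hr]
    exact H.toFrm.le_of_not_dvd (elemAb_isPGroup hA.1) ho
  refine h V (ρ.comp f) (H.faithful.comp hf) ?_ (A.comap f) (SpB.off_comap f hf hAK hA) ?_
  · rw [fx_comp, ← MonoidHom.range_eq_map, hr]
    exact H.toStp.fx_K
  · rw [cub_comp, map_comap_eq_self hAK]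
    exact hc

theorem lb_of_faithful (hm : HasCyclicSchurMultiplier S 1) {d : ℕ}
    (h : ∀ (V : Type) [AddCommGroup V] [Module (ZMod p) V] [Finite V] (ρ : Representation (ZMod p) S V),
      Function.Injective ρ → d ≤ finrank (ZMod p) V) : LB p S d := by
  intro K _ _ π hK hs hk _ U _ _ _ σ hσ
  have h1 := XE.card_ker_dvd' hm K π ⟨hs, hk.le, hK.commutator_eq_top ▸ le_top⟩
  have hπ : Function.Bijective π := ⟨(MonoidHom.ker_eq_bot_iff π).1 (card_eq_one.1 (Nat.dvd_one.1 h1)), hs⟩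
  exact h U (σ.comp (MulEquiv.ofBijective π hπ).symm.toMonoidHom)
    (hσ.comp (MulEquiv.ofBijective π hπ).symm.injective)

end rows

section cods

variable {p : ℕ} [Fact p.Prime] {Y : Type*} [Group Y] [Finite Y] {V : Type*} [AddCommGroup V] [Module (ZMod p) V]
  [Finite V] {ρ : Representation (ZMod p) Y V}

omit [Finite Y] [Finite V] in
theorem rho_ne (hf : Function.Injective ρ) {z : Y} (h : z ≠ 1) : ρ z ≠ 1 := fun e => h (hf (e.trans (map_one ρ).symm))

/-- an extraspecial group -/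
theorem cod_extra (hf : Function.Injective ρ) {r k : ℕ} (hr : r.Prime) (hrp : r ≠ p) {z : Y} (hz : orderOf z = r)
    {Q : Subgroup Y} (hQ : r ^ (2 * k + 1) ≤ Nat.card Q) (hzQ : z ∈ Q) (hc : ∀ q ∈ Q, q * z = z * q)
    (hcm : ∀ a ∈ Q, ∀ b ∈ Q, a * b * a⁻¹ * b⁻¹ ∈ zpowers z)
    (hZ : ∀ t ∈ Q, (∀ q ∈ Q, t * q = q * t) → t ∈ zpowers z) :
    orderOf (p : ZMod r) * r ^ k ≤ cod ρ (zpowers z) := by
  have hz1 : z ≠ 1 := by
    rintro rfl
    rw [orderOf_one] at hz
    exact hr.one_lt.ne hz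
  have h := heis (ρ := ρ) (Q := Q) hr (hz ▸ pow_orderOf_eq_one z) (XE.cast_ne_zero hr hrp) (rho_ne hf hz1) hc
    (fun a ha b hb => hcm a ha b hb) (zpowers z) (fun t ht h1 => by
      by_contra h2
      push Not at h2
      exact h1 (hZ t ht h2)) (m := r ^ k) (by
      have h3 := relIndex_mul_relIndex ⊥ (zpowers z) Q bot_le ((zpowers_le).2 hzQ)
      rw [relIndex_bot_left, relIndex_bot_left, Nat.card_zpowers, hz] at h3
      rw [← h3, pow_succ', mul_comm 2 k, pow_mul] at hQ
      exact Nat.le_of_mul_le_mul_left hQ hr.pos)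
  rwa [ZMod.card] at h

/-- a large extraspecial 2-group -/
theorem cod_large (hf : Function.Injective ρ) (hp : 2 ≠ p) {z : Y} {Q : Subgroup Y} (h : Co2Type.Quad.Large Q z)
    {k : ℕ} (hQ : Nat.card Q = 2 ^ (2 * k + 1)) : 2 ^ k ≤ cod ρ (zpowers z) := by
  have h1 := cod_extra hf Nat.prime_two hp (orderOf_eq_prime (by rw [pow_two]; exact h.z_sq) h.z_ne) hQ.ge h.z_mem
    h.comm_z (fun x hx y hy => by
      rcases h.comm x hx y hy with h1 | h1
      · rw [h1, mul_inv_cancel_right, mul_inv_cancel]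
        exact one_mem _
      · have h3 : x * y * x⁻¹ * y⁻¹ = z := by
          rw [h1]
          have hz1 := h.comm_z (x⁻¹) (Q.inv_mem hx)
          have hz2 := h.comm_z (y⁻¹) (Q.inv_mem hy)
          calc y * x * z * x⁻¹ * y⁻¹ = y * x * (z * x⁻¹) * y⁻¹ := by group
            _ = y * x * (x⁻¹ * z) * y⁻¹ := by rw [hz1]
            _ = y * (z * y⁻¹) := by group
            _ = y * (y⁻¹ * z) := by rw [hz2]
            _ = z := by group
        rw [h3]
        exact mem_zpowers z) (fun t ht h1 => by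
      rcases h.cent t ht h1 with h2 | h2
      · rw [h2]; exact one_mem _
      · rw [h2]; exact mem_zpowers z)
  have h2 : 0 < orderOf (p : ZMod 2) := by
    have h3 : (p : ZMod 2) ≠ 0 := fun e =>
      hp ((Nat.prime_dvd_prime_iff_eq Nat.prime_two Fact.out).1 ((ZMod.natCast_eq_zero_iff p 2).1 e))
    have h4 : ∀ a : ZMod 2, a ≠ 0 → a = 1 := by decide
    rw [h4 _ h3, orderOf_one]
    exact Nat.one_pos
  exact (Nat.le_mul_of_pos_left _ h2).trans h1

/-- an elementary abelian 2-group of order at least `n` -/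
theorem cod_pure (hp : 2 ≠ p) {R : Subgroup Y} (he : ∀ g ∈ R, g * g = 1) {c n : ℕ} (hn : n ≤ Nat.card R)
    (h : ∀ g ∈ R, g ≠ 1 → c ≤ cod ρ (zpowers g)) : 2 * ((n - 1) * c) ≤ n * cod ρ R := by
  have hi : ∀ g ∈ R, g⁻¹ = g := fun g hg => inv_eq_of_mul_eq_one_left (he g hg)
  have h1 := avg_ge (ρ := ρ) Nat.prime_two (XE.cast_ne_zero Nat.prime_two hp) (R := R) (fun a ha b hb => by
    rw [← hi _ (mul_mem ha hb), mul_inv_rev, hi a ha, hi b hb]) (fun g hg => by rw [pow_two]; exact he g hg) h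
  generalize Nat.card R = N at hn h1
  generalize cod ρ R = d at h1
  rcases Nat.eq_zero_or_pos n with rfl | h0
  · simp
  obtain ⟨n, rfl⟩ : ∃ m, n = m + 1 := ⟨n - 1, by omega⟩
  obtain ⟨e, rfl⟩ : ∃ e, N = n + 1 + e := ⟨N - (n + 1), by omega⟩
  rw [show n + 1 + e - 1 = n + e by omega, show 2 - 1 = 1 from rfl, one_mul] at h1
  rw [Nat.add_sub_cancel]
  by_contra hc
  have h2 : (n + 1) * d < 2 * (n * c) := by omega
  have h3 : d ≤ 2 * c := by
    by_contra h4
    nlinarith
  nlinarith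

end cods

end Cfsg.Agent.TwoF.SpD.HN
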